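import Cfsg.Agent.Lib.Chars.Ops
import Cfsg.Agent.Lib.Chars.Induced

/-!
# Induction from a normal subgroup: conjugate characters, norms; real characters in odd order
-/

set_option autoImplicit false

namespace Cfsg.Agent.Lib.Burnside

open scoped ComplexConjugate
open Cfsg.Agent.Lib.Chars

universe u

variable {G : Type u} [Group G] (N : Subgroup G) [hN : N.Normal]

/-- Conjugation by `x` as an automorphism of a normal subgroup, applied to functions. -/
noncomputable def conjFun (x : G) (θ : N → ℂ) : N → ℂ :=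
  fun n => θ ⟨x * n * x⁻¹, hN.conj_mem n n.2 x⟩

theorem conjFun_conjFun (x y : G) (θ : N → ℂ) :
    conjFun N x (conjFun N y θ) = conjFun N (y * x) θ := by
  funext n
  simp only [conjFun]
  congr 1
  apply Subtype.ext
  simp only [mul_inv_rev, mul_assoc]

theorem conjFun_one (θ : N → ℂ) : conjFun N 1 θ = θ := by
  funext n
  simp [conjFun]

theorem conjFun_mem (θ : N → ℂ) (hθ : IsClassFunction N θ) (a : N) : conjFun N (a : G) θ = θ := by
  funext n
  exact hθ n a

theorem conjFun_pow_fixed (x : G) (θ : N → ℂ) (h : conjFun N x θ = θ) (k : ℕ) :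
    conjFun N (x ^ k) θ = θ := by
  induction k with
  | zero => rw [pow_zero, conjFun_one]
  | succ k ih => rw [pow_succ, ← conjFun_conjFun, ih, h]

theorem isIrrCharacter_conjFun [Finite G] (x : G) {θ : N → ℂ} (hθ : IsIrrCharacter N θ) :
    IsIrrCharacter N (conjFun N x θ) := by
  have h : conjFun N x θ = fun n => θ ((MulAut.conjNormal x : MulAut N) n) := by
    funext n
    simp only [conjFun]
    congr 1
  rw [h]
  exact isIrrCharacter_comp_mulEquiv (MulAut.conjNormal x : MulAut N) hθ

variable [Fintype G]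

/-- The restriction to `N` of a function induced from `N`. -/
theorem indFun_coe (θ : N → ℂ) (n : N) :
    indFun N θ (n : G) = (Nat.card N : ℂ)⁻¹ * ∑ x : G, conjFun N x θ n := by
  simp only [indFun, conjFun]
  congr 1
  refine Fintype.sum_equiv (Equiv.inv G) _ _ fun x => ?_
  rw [extendByZero_of_mem _ (by simpa using hN.conj_mem _ n.2 x⁻¹)]
  simp

theorem indFun_eq_zero_of_not_mem (θ : N → ℂ) {g : G} (hg : g ∉ N) : indFun N θ g = 0 := by
  simp only [indFun]
  rw [Finset.sum_eq_zero, mul_zero]
  intro x _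
  refine extendByZero_of_not_mem _ fun h => hg ?_
  simpa [mul_assoc] using hN.conj_mem _ h x

theorem classInner_restrict_indFun [Fintype N] (θ η : N → ℂ) :
    classInner (fun n : N => indFun N θ n) η
      = (Nat.card N : ℂ)⁻¹ * ∑ x : G, classInner (conjFun N x θ) η := by
  simp only [classInner, indFun_coe, Finset.mul_sum, Finset.sum_mul]
  rw [Finset.sum_comm]
  exact Finset.sum_congr rfl fun x _ => Finset.sum_congr rfl fun n _ => by ring

theorem classInner_indFun_indFun [Fintype N] (θ η : N → ℂ) :
    classInner (indFun N θ) (indFun N η)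
      = (Nat.card N : ℂ)⁻¹ * ∑ x : G, classInner (conjFun N x θ) η := by
  rw [classInner_indFun_right N η _ (isClassFunction_indFun N θ), classInner_restrict_indFun]

open Classical in
theorem classInner_indFun_irr [Fintype N] {θ η : N → ℂ} (hθ : IsIrrCharacter N θ)
    (hη : IsIrrCharacter N η) :
    classInner (indFun N θ) (indFun N η)
      = (Nat.card N : ℂ)⁻¹ * Nat.card {x : G // conjFun N x θ = η} := by
  rw [classInner_indFun_indFun]
  congr 1
  have : ∀ x : G, classInner (conjFun N x θ) η = if conjFun N x θ = η then 1 else 0 := fun x => by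
    have h := classInner_irr (⟨_, isIrrCharacter_conjFun N x hθ⟩ : IrrCharacter N) ⟨η, hη⟩
    simpa [Subtype.ext_iff] using h
  simp only [this, Finset.sum_boole, Nat.card_eq_fintype_card, Fintype.card_subtype]

omit [Fintype G] in
/-- In a group of odd order, only the trivial irreducible character is real. -/
theorem eq_one_of_star_eq_self_of_odd {H : Type u} [Group H] [Finite H] (hodd : Odd (Nat.card H))
    {θ : H → ℂ} (hθ : IsIrrCharacter H θ) (hreal : ∀ h, conj (θ h) = θ h) :
    θ = fun _ => 1 := by
  classical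
  cases nonempty_fintype H
  by_contra hne
  obtain ⟨n, hn, hn1, hdvd⟩ := irr_degree_dvd_card ⟨θ, hθ⟩
  change θ 1 = _ at hn1
  have hsum : ∑ h : H, θ h = 0 := by
    have h0 := classInner_irr_of_ne (χ := ⟨θ, hθ⟩) (ψ := trivialIrr H)
      fun h => hne (congrArg Subtype.val h)
    simp only [classInner, trivialIrr_apply, map_one, mul_one, mul_eq_zero, inv_eq_zero] at h0
    exact h0.resolve_left natCard_ne_zero
  have hinv : ∀ h : H, θ h⁻¹ = θ h := fun h => by
    rw [isCharacter_inv_apply (isCharacter_of_isIrrCharacter hθ), hreal]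
  have hne2 : ∀ h : H, h ≠ 1 → h⁻¹ ≠ h := by
    intro h h1 heq
    have h2 : h ^ 2 = 1 := by
      rw [pow_two]
      nth_rewrite 1 [← heq]
      exact inv_mul_cancel h
    have : orderOf h ∣ Nat.gcd 2 (Nat.card H) :=
      Nat.dvd_gcd (orderOf_dvd_of_pow_eq_one h2) (orderOf_dvd_natCard h)
    rw [Nat.coprime_two_left.mpr hodd, Nat.dvd_one, orderOf_eq_one_iff] at this
    exact h1 this
  let e : H ≃ Fin (Fintype.card H) := Fintype.equivFin H
  set A := Finset.univ.filter fun h : H => h ≠ 1 ∧ e h < e h⁻¹ with hA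
  set B := Finset.univ.filter fun h : H => h ≠ 1 ∧ e h⁻¹ < e h with hB
  have hAB : ∑ h ∈ B, θ h = ∑ h ∈ A, θ h :=
    Finset.sum_nbij' (fun h => h⁻¹) (fun h => h⁻¹) (fun h hh => by simp_all)
      (fun h hh => by simp_all) (fun h _ => inv_inv h) (fun h _ => inv_inv h)
      (fun h _ => (hinv h).symm)
  have hsplit : ∑ h ∈ (Finset.univ : Finset H).erase 1, θ h
      = ∑ h ∈ A, θ h + ∑ h ∈ B, θ h := by
    rw [← Finset.sum_union (Finset.disjoint_left.mpr fun h h1 h2 => by
      simp only [hA, hB, Finset.mem_filter] at h1 h2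
      exact absurd h1.2.2 (not_lt.mpr h2.2.2.le))]
    refine Finset.sum_congr ?_ fun _ _ => rfl
    ext h
    simp only [hA, hB, Finset.mem_erase, Finset.mem_union, Finset.mem_filter, Finset.mem_univ,
      and_true, true_and]
    constructor
    · intro h1
      rcases lt_trichotomy (e h) (e h⁻¹) with h2 | h2 | h2
      · exact Or.inl ⟨h1, h2⟩
      · exact absurd (e.injective h2).symm (hne2 h h1)
      · exact Or.inr ⟨h1, h2⟩
    · rintro (h1 | h1) <;> exact h1.1
  rw [← Finset.add_sum_erase _ _ (Finset.mem_univ (1 : H)), hsplit, hAB, hn1] at hsum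
  have hint : IsIntegral ℤ ((n : ℂ) / (2 : ℕ)) := by
    have : (n : ℂ) / (2 : ℕ) = -∑ h ∈ A, θ h := by push_cast; linear_combination hsum / 2
    rw [this]
    exact (IsIntegral.sum _ fun h _ =>
      isCharacter_isIntegral (isCharacter_of_isIrrCharacter hθ) h).neg
  have h2 := dvd_of_isIntegral_div (by norm_num) hint
  exact Nat.not_even_iff_odd.mpr hodd (even_iff_two_dvd.mpr (h2.trans hdvd))

end Cfsg.Agent.Lib.Burnside
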